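import Groth.Prelude.Def_Omega2
import Groth.Prelude.Def_Omega3
import Groth.Agent.OmegaPn.Simple
import Groth.Agent.ExtPow7.Basics
import Groth.Agent.H23.PnChart
import Mathlib

/-!
# Vector fields on projective space have zeros
-/

set_option autoImplicit false
set_option linter.style.haveILetI false
set_option linter.unusedSectionVars false
set_option maxHeartbeats 800000
set_option backward.isDefEq.respectTransparency false
set_option backward.isDefEq.respectTransparency.types false

universe u

open CategoryTheory CategoryTheory.Limits AlgebraicGeometry TopologicalSpace Opposite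
open Groth.Agent.PnCoh.Finite (mapLin deltaLin)

noncomputable section

namespace Groth.Agent.VecPn7

open Groth.Agent Groth.Agent.AModX Groth.Agent.ExtShX.PnOmegaOver Groth.Agent.OmegaPn
open MvPolynomial (C X totalDegree)

/-- Clearing denominators in a polynomial in fractions of linear polynomials. -/
theorem exists_num {σ τ k K : Type*} [Fintype τ] [CommRing k] [Field K] (φ : MvPolynomial σ k →+* K) (D : MvPolynomial σ k)
    (v : τ → MvPolynomial σ k) (hD : D.totalDegree ≤ 1) (hv : ∀ r, (v r).totalDegree ≤ 1) (hD0 : φ D ≠ 0)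
    (Q : MvPolynomial τ k) (N : ℕ) (hN : Q.totalDegree ≤ N) :
    ∃ R : MvPolynomial σ k, R.totalDegree ≤ N ∧
      φ R = φ D ^ N * MvPolynomial.eval₂ (φ.comp C) (fun r => φ (v r) / φ D) Q := by
  classical
  have hm : ∀ m ∈ Q.support, (∑ r, m r) ≤ N := fun m hm => by
    refine le_trans ?_ ((MvPolynomial.le_totalDegree hm).trans hN)
    rw [Finsupp.sum_fintype _ _ fun _ => rfl]
  refine ⟨∑ m ∈ Q.support, C (Q.coeff m) * (∏ r, v r ^ m r) * D ^ (N - ∑ r, m r), ?_, ?_⟩
  · refine (MvPolynomial.totalDegree_finsetSum _ _).trans (Finset.sup_le fun m hm' => ?_)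
    have h1 : (∏ r, v r ^ m r).totalDegree ≤ ∑ r, m r :=
      (MvPolynomial.totalDegree_finsetProd _ _).trans (Finset.sum_le_sum fun r _ =>
        (MvPolynomial.totalDegree_pow _ _).trans (le_trans (Nat.mul_le_mul le_rfl (hv r)) (le_of_eq (mul_one _))))
    have h2 : (D ^ (N - ∑ r, m r)).totalDegree ≤ N - ∑ r, m r :=
      (MvPolynomial.totalDegree_pow _ _).trans (le_trans (Nat.mul_le_mul le_rfl hD) (le_of_eq (mul_one _)))
    refine (MvPolynomial.totalDegree_mul _ _).trans ?_
    refine (Nat.add_le_add ((MvPolynomial.totalDegree_mul _ _).trans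
      (Nat.add_le_add (le_of_eq (MvPolynomial.totalDegree_C _)) h1)) h2).trans ?_
    have := hm m hm'
    omega
  · rw [MvPolynomial.eval₂_eq', Finset.mul_sum, map_sum]
    refine Finset.sum_congr rfl fun m hm' => ?_
    simp only [map_mul, map_pow, map_prod, RingHom.comp_apply, div_pow, Finset.prod_div_distrib,
      Finset.prod_pow_eq_pow_sum]
    conv_rhs => rw [← Nat.sub_add_cancel (hm m hm'), pow_add]
    field_simp

/-- Polynomials of degree at most one. -/
theorem eq_of_totalDegree_le_one {σ k : Type*} [Fintype σ] [CommRing k] (P : MvPolynomial σ k)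
    (hP : P.totalDegree ≤ 1) : P = C (P.coeff 0) + ∑ r, C (P.coeff (Finsupp.single r 1)) * X r := by
  classical
  refine MvPolynomial.ext _ _ fun m => ?_
  rw [MvPolynomial.coeff_add, MvPolynomial.coeff_sum, MvPolynomial.coeff_C]
  simp only [MvPolynomial.coeff_C_mul, MvPolynomial.coeff_X', mul_ite, mul_one, mul_zero]
  by_cases h0 : m = 0
  · subst h0
    simp
  rw [if_neg (Ne.symm h0), zero_add]
  by_cases h1 : ∃ r, Finsupp.single r 1 = m
  · obtain ⟨r, rfl⟩ := h1
    rw [Finset.sum_eq_single r (fun s _ hs => if_neg fun h => hs (Finsupp.single_left_injective one_ne_zero h))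
      (by simp), if_pos rfl]
  · push Not at h1
    rw [Finset.sum_eq_zero fun r _ => if_neg (h1 r)]
    by_contra hc
    have hd : ∑ r, m r ≤ 1 := by
      refine le_trans ?_ ((MvPolynomial.le_totalDegree (MvPolynomial.mem_support_iff.2 hc)).trans hP)
      rw [Finsupp.sum_fintype _ _ fun _ => rfl]
    obtain ⟨r, hr⟩ : ∃ r, m r ≠ 0 := by
      by_contra h
      push Not at h
      exact h0 (Finsupp.ext h)
    refine h1 r (Finsupp.ext fun s => ?_)
    rcases eq_or_ne r s with rfl | hrs
    · rw [Finsupp.single_eq_same]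
      have := Finset.single_le_sum (fun i _ => Nat.zero_le (m i)) (Finset.mem_univ r)
      omega
    · rw [Finsupp.single_eq_of_ne' hrs]
      have h3 : m r + m s ≤ ∑ i, m i := by
        rw [← Finset.sum_pair hrs]
        exact Finset.sum_le_sum_of_subset (Finset.subset_univ _)
      omega

variable (n : ℕ) (k : Type u) [Field k]

local notation "P" => CohB1.ProjSpace n k

instance : AlgebraicGeometry.IsIntegral (CohB1.ProjSpace n k) := H23.PnChart.isIntegral_projSpace n k

/-- The constants on a chart. -/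
def cst (i : Fin (n + 1)) : k →+* Γ(P, DD n k i) := (chartEquiv n k i).toRingHom.comp C

theorem resR_cst (i l : Fin (n + 1)) {W : (P).Opens} (hi : W ≤ DD n k i) (hl : W ≤ DD n k l) (c : k) :
    resR hi (cst n k i c) = resR hl (cst n k l c) := by
  have key : ∀ (j : Fin (n + 1)) (hj : W ≤ DD n k j), resR hj (cst n k j c) =
      ((CohB1.ProjSpace.toSpec n k).appLE ⊤ W le_top).hom ((Scheme.ΓSpecIso (CommRingCat.of k)).inv c) := by
    intro j hj
    show resR hj (chartEquiv n k j (C c)) = _
    rw [OmegaPn.chartEquiv_C]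
    exact ConcreteCategory.congr_hom (Scheme.Hom.appLE_map (CohB1.ProjSpace.toSpec n k) le_top (homOfLE hj).op) _
  rw [key i hi, key l hl]

theorem genericPoint_mem (i : Fin (n + 1)) : genericPoint P ∈ DD n k i := by
  haveI : Nontrivial Γ(P, DD n k i) := (chartEquiv n k i).symm.toEquiv.nontrivial
  have hne : (DD n k i : Set P).Nonempty := by
    by_contra h
    have h0 : DD n k i = ⊥ := TopologicalSpace.Opens.ext (Set.not_nonempty_iff_eq_empty.1 h)
    haveI : Subsingleton Γ(P, DD n k i) := by rw [h0]; infer_instance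
    exact false_of_nontrivial_of_subsingleton Γ(P, DD n k i)
  exact ((genericPoint_spec P).mem_open_set_iff (DD n k i).2).2 (by simpa using hne)

/-- Rational functions of chart functions. -/
def gg (i : Fin (n + 1)) : Γ(P, DD n k i) →+* (P).presheaf.stalk (genericPoint P) :=
  ((P).presheaf.germ (DD n k i) (genericPoint P) (genericPoint_mem n k i)).hom

theorem gg_injective (i : Fin (n + 1)) : Function.Injective (gg n k i) :=
  germ_injective_of_isIntegral P (genericPoint P) (genericPoint_mem n k i)

theorem gg_eq_of_res {i l : Fin (n + 1)} {f : Γ(P, DD n k i)} {f' : Γ(P, DD n k l)}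
    (h : resR (inf_le_left : DD n k i ⊓ DD n k l ≤ DD n k i) f =
      resR (inf_le_right : DD n k i ⊓ DD n k l ≤ DD n k l) f') : gg n k i f = gg n k l f' := by
  have hη : genericPoint P ∈ DD n k i ⊓ DD n k l := ⟨genericPoint_mem n k i, genericPoint_mem n k l⟩
  have := congrArg ((P).presheaf.germ _ (genericPoint P) hη) h
  rw [RefX.germ_resR, RefX.germ_resR] at this
  exact this

theorem gg_a (i : Fin (n + 1)) :
    gg n k i (a n k i 0) * gg n k 0 (a n k 0 i) = 1 ∧
      ∀ q, gg n k i (a n k i q) = gg n k i (a n k i 0) * gg n k 0 (a n k 0 q) := by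
  have hη : genericPoint P ∈ DD n k i ⊓ DD n k 0 := ⟨genericPoint_mem n k i, genericPoint_mem n k 0⟩
  have h : ∀ q, gg n k i (a n k i q) = gg n k i (a n k i 0) * gg n k 0 (a n k 0 q) := fun q => by
    have := congrArg ((P).presheaf.germ _ (genericPoint P) hη)
      (a_trans n k 0 i q (inf_le_right : DD n k i ⊓ DD n k 0 ≤ DD n k 0) inf_le_left)
    rw [map_mul, RefX.germ_resR, RefX.germ_resR, RefX.germ_resR] at this
    exact this
  refine ⟨?_, h⟩
  rw [← h i, a_self, map_one]

/-- A family of chart functions twisting like a section of `O(1)` is given by a linear form. -/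
theorem exists_linear (L : ∀ i : Fin (n + 1), Γ(P, DD n k i))
    (hL : ∀ i l, resR (inf_le_right : DD n k i ⊓ DD n k l ≤ DD n k l) (L l) =
      resR (inf_le_right : DD n k i ⊓ DD n k l ≤ DD n k l) (a n k l i) *
        resR (inf_le_left : DD n k i ⊓ DD n k l ≤ DD n k i) (L i)) :
    ∃ c : Fin (n + 1) → k, ∀ i, L i = ∑ q, cst n k i (c q) * a n k i q := by
  classical
  let K := (P).presheaf.stalk (genericPoint P)
  letI : Field K := inferInstanceAs (Field (P).functionField)
  let φ : MvPolynomial (Fin n) k →+* K := (gg n k 0).comp (chartEquiv n k 0).toRingHom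
  have hφ : Function.Injective φ := (gg_injective n k 0).comp (chartEquiv n k 0).injective
  let w : Fin (n + 1) → MvPolynomial (Fin n) k := Fin.cases 1 X
  have hw : ∀ q, φ (w q) = gg n k 0 (a n k 0 q) := by
    intro q
    induction q using Fin.cases with
    | zero => simp [w, φ, a_self]
    | succ r =>
      show gg n k 0 (chartEquiv n k 0 (X r)) = _
      rw [chartEquiv_X, Fin.succAbove_zero]
  have hwdeg : ∀ q, (w q).totalDegree ≤ 1 := by
    intro q
    induction q using Fin.cases with
    | zero => simp [w]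
    | succ r => simp [w]
  have hwne : ∀ q, φ (w q) ≠ 0 := fun q => by
    rw [hw]
    exact right_ne_zero_of_mul_eq_one (gg_a n k q).1
  have hcst : ∀ i c, gg n k i (cst n k i c) = φ (C c) := fun i c =>
    gg_eq_of_res n k (resR_cst n k i 0 inf_le_left inf_le_right c)
  have hLK : ∀ l, gg n k l (L l) = gg n k l (a n k l 0) * gg n k 0 (L 0) := fun l => by
    have hη : genericPoint P ∈ DD n k 0 ⊓ DD n k l := ⟨genericPoint_mem n k 0, genericPoint_mem n k l⟩
    have := congrArg ((P).presheaf.germ _ (genericPoint P) hη) (hL 0 l)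
    rw [map_mul, RefX.germ_resR, RefX.germ_resR, RefX.germ_resR] at this
    exact this
  let P₀ := (chartEquiv n k 0).symm (L 0)
  have hP₀ : φ P₀ = gg n k 0 (L 0) := congrArg (gg n k 0) ((chartEquiv n k 0).apply_symm_apply (L 0))
  have hdeg : P₀.totalDegree ≤ 1 := by
    by_contra hlt
    push Not at hlt
    obtain ⟨r₀⟩ : Nonempty (Fin n) := by
      by_contra h
      rw [not_nonempty_iff] at h
      rw [MvPolynomial.eq_C_of_isEmpty P₀, MvPolynomial.totalDegree_C] at hlt
      omega
    let l := r₀.succ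
    let Q := (chartEquiv n k l).symm (L l)
    have hQ : gg n k l (L l) =
        MvPolynomial.eval₂ (φ.comp C) (fun r => φ (w (l.succAbove r)) / φ (w l)) Q := by
      have he : (gg n k l).comp (chartEquiv n k l).toRingHom =
          MvPolynomial.eval₂Hom (φ.comp C) (fun r => φ (w (l.succAbove r)) / φ (w l)) := by
        refine MvPolynomial.ringHom_ext (fun c => ?_) fun r => ?_
        · rw [MvPolynomial.eval₂Hom_C]
          exact hcst l c
        · rw [MvPolynomial.eval₂Hom_X', eq_div_iff (hwne l)]
          show gg n k l (chartEquiv n k l (X r)) * _ = _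
          rw [chartEquiv_X, (gg_a n k l).2, hw, hw, mul_right_comm, (gg_a n k l).1, one_mul]
      have := congrArg (fun f : MvPolynomial (Fin n) k →+* K => f Q) he
      simp only [RingHom.comp_apply, MvPolynomial.coe_eval₂Hom] at this
      rw [← this]
      exact congrArg (gg n k l) ((chartEquiv n k l).apply_symm_apply (L l)).symm
    obtain ⟨R, hR, hRφ⟩ := exists_num φ (w l) (fun r => w (l.succAbove r)) (hwdeg l) (fun r => hwdeg _) (hwne l)
      Q (Q.totalDegree + 1) (Nat.le_succ _)
    have h1 : φ (w l ^ Q.totalDegree * P₀) = φ R := by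
      rw [hRφ, ← hQ, hLK l, map_mul, map_pow, hP₀, pow_succ]
      have := (gg_a n k l).1
      rw [← hw] at this
      linear_combination (-(φ (w l) ^ Q.totalDegree) * gg n k 0 (L 0)) * this
    have h2 := congrArg totalDegree (hφ h1)
    have hwl : w l = X r₀ := by simp [w, l]
    have hP0ne : P₀ ≠ 0 := fun h => by rw [h] at hlt; simp at hlt
    rw [MvPolynomial.totalDegree_mul_of_isDomain (pow_ne_zero _ fun h => hwne l (by rw [h, map_zero])) hP0ne,
      hwl, MvPolynomial.totalDegree_X_pow] at h2
    omega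
  let c : Fin (n + 1) → k := Fin.cases (P₀.coeff 0) fun r => P₀.coeff (Finsupp.single r 1)
  have hsum : P₀ = ∑ q, C (c q) * w q := by
    rw [Fin.sum_univ_succ]
    simp only [c, w, Fin.cases_zero, Fin.cases_succ, mul_one]
    exact eq_of_totalDegree_le_one P₀ hdeg
  refine ⟨c, fun i => gg_injective n k i ?_⟩
  rw [hLK i, ← hP₀, hsum, map_sum, map_sum, Finset.mul_sum]
  refine Finset.sum_congr rfl fun q _ => ?_
  rw [map_mul, map_mul, hw, hcst, (gg_a n k i).2 q]
  ring

/-- A point where the tautological vector is an eigenvector. -/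
theorem exists_eigenpoint (M : Fin (n + 1) → Fin (n + 1) → k) :
    ∃ (i : Fin (n + 1)) (x : P) (hx : x ∈ DD n k i), ∀ j : Fin (n + 1),
      (P).presheaf.germ (DD n k i) x hx
        ((∑ q, cst n k i (M j q) * a n k i q) - a n k i j * ∑ q, cst n k i (M i q) * a n k i q) ∈
          IsLocalRing.maximalIdeal ((P).presheaf.stalk x) := by
  classical
  let F := AlgebraicClosure k
  let A : Matrix (Fin (n + 1)) (Fin (n + 1)) F := Matrix.of fun j q => algebraMap k F (M j q)
  obtain ⟨μ, hμ⟩ := Module.End.exists_eigenvalue A.mulVecLin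
  obtain ⟨v, hv⟩ := hμ.exists_hasEigenvector
  have hvA : ∀ j, ∑ q, algebraMap k F (M j q) * v q = μ * v j := fun j => by
    have := congrFun hv.apply_eq_smul j
    simpa [A, Matrix.mulVec, dotProduct] using this
  obtain ⟨i, hi⟩ : ∃ i, v i ≠ 0 := Function.ne_iff.1 hv.2
  let e : Γ(P, DD n k i) →+* F :=
    (MvPolynomial.eval₂Hom (algebraMap k F) fun r => v (i.succAbove r) / v i).comp
      (chartEquiv n k i).symm.toRingHom
  have hea : ∀ q, e (a n k i q) = v q / v i := by
    intro q
    rcases eq_or_ne q i with rfl | hq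
    · rw [a_self, map_one, div_self hi]
    · obtain ⟨r, rfl⟩ := Fin.exists_succAbove_eq hq
      rw [← chartEquiv_X]
      simp [e]
  have hec : ∀ c, e (cst n k i c) = algebraMap k F c := fun c => by simp [e, cst]
  have hU : IsAffineOpen (DD n k i) := isAffineOpen_DD n k i
  let p : PrimeSpectrum Γ(P, DD n k i) := ⟨RingHom.ker e, RingHom.ker_isPrime e⟩
  have hx : hU.fromSpec p ∈ DD n k i := by
    have : hU.fromSpec p ∈ Set.range hU.fromSpec := ⟨p, rfl⟩
    rwa [hU.range_fromSpec] at this
  refine ⟨i, hU.fromSpec p, hx, fun j => ?_⟩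
  have hker : (∑ q, cst n k i (M j q) * a n k i q) - a n k i j * ∑ q, cst n k i (M i q) * a n k i q ∈
      p.asIdeal := by
    show e _ = 0
    simp only [map_sub, map_mul, map_sum, hea, hec, mul_div_assoc', ← Finset.sum_div, hvA]
    rw [sub_eq_zero, mul_div_assoc, mul_div_assoc, mul_div_assoc, div_self hi]
    ring
  rw [IsLocalRing.mem_maximalIdeal, mem_nonunits_iff, ← Scheme.mem_basicOpen]
  intro hb
  have : p ∈ hU.fromSpec ⁻¹ᵁ (P).basicOpen
      ((∑ q, cst n k i (M j q) * a n k i q) - a n k i j * ∑ q, cst n k i (M i q) * a n k i q) := hb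
  rw [hU.fromSpec_preimage_basicOpen] at this
  exact this hker

/-- The element of a singleton. -/
def el (S : Idx n 1) : Fin (n + 1) := Set.powersetCard.ofFinEmbEquiv.symm S 0

theorem el_bijective : Function.Bijective (el n) := by
  classical
  rw [Fintype.bijective_iff_injective_and_card]
  refine ⟨fun S T h => Set.powersetCard.ofFinEmbEquiv.symm.injective (RelEmbedding.ext fun r => ?_), ?_⟩
  · rw [Subsingleton.elim r 0]
    exact h
  · rw [Fintype.card_eq_nat_card, natCard_Idx, Nat.choose_one_right, Fintype.card_fin]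

/-- Every vector field on projective space has a zero. -/
theorem exists_zero (ξ : Omega.sheaf (CohB1.ProjSpace.toSpec n k) ⟶ Coh.structureModule P) :
    ∃ x : P, ∀ (U : (P).Opens) (hx : x ∈ U) (s : Γ(Omega.sheaf (CohB1.ProjSpace.toSpec n k), U)),
      (P).presheaf.germ U x hx (OmegaSh.fnSect P U (ξ.app U s)) ∈
        IsLocalRing.maximalIdeal ((P).presheaf.stalk x) := by
  classical
  obtain ⟨e⟩ := nonempty_iso_Z n k (ExtPow7.isExtPow_one (Omega.sheaf (CohB1.ProjSpace.toSpec n k)))
  haveI : Subsingleton (Idx n 0) := ((Nat.card_eq_one_iff_unique (α := Idx n 0)).1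
    (by rw [natCard_Idx, Nat.choose_zero_right])).1
  haveI : Unique (Idx n 0) := uniqueOfSubsingleton ((Nat.card_eq_one_iff_unique (α := Idx n 0)).1
    (by rw [natCard_Idx, Nat.choose_zero_right])).2.some
  let e₀ : Z n k 0 ≅ Coh.structureModule P :=
    biproductUniqueIso (fun _ : Idx n 0 => O n k 0) ≪≫ eqToIso (by rw [O]; simp; rfl) ≪≫
      (@asIso _ _ _ _ _ (PnCoh.Finite.isIso_oneHom (𝒜 := CohB1.polyGrading n k) (Xc n k) (Xc_mem n k) (iSup_Xc n k))).symm
  have hH : Subsingleton (Coh.HH P (Coh.structureModule P) 1) := by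
    haveI := Z_hodge_van (n := n) (A := k) 0 1 (Or.inl (by omega))
    exact (HHiso k e₀ 1).symm.toEquiv.subsingleton
  obtain ⟨η, hη⟩ := exists_extend k (shortExact_sc n k 0) e₀ (e.inv ≫ ξ) (fun t => hH.elim _ _)
  let L : Idx n 1 → ∀ i : Fin (n + 1), Γ(P, DD n k i) := fun S i =>
    OmegaSh.fnSect P (DD n k i) (η.app (DD n k i) (wb n k 1 (le_refl (DD n k i)) S))
  have hLt : ∀ S i l, resR (inf_le_right : DD n k i ⊓ DD n k l ≤ DD n k l) (L S l) =
      resR (inf_le_right : DD n k i ⊓ DD n k l ≤ DD n k l) (a n k l i) *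
        resR (inf_le_left : DD n k i ⊓ DD n k l ≤ DD n k i) (L S i) := by
    intro S i l
    have h := OmegaPn.res_pw n k 1 i l (inf_le_left : DD n k i ⊓ DD n k l ≤ DD n k i) inf_le_right
    rw [pow_one] at h
    let β := biproduct.ι (fun _ : Idx n 1 => O n k 1) S ≫ η
    have hres : ∀ (q : Fin (n + 1)) (hq : DD n k i ⊓ DD n k l ≤ DD n k q),
        β.app (DD n k i ⊓ DD n k l) (res _ hq (pw n k (-((1 : ℕ) : ℤ)) q)) = resR hq (L S q) := fun q hq => by
      refine (app_res β hq _).trans ?_
      refine congrArg (res (Coh.structureModule P) hq) ?_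
      show β.app _ _ = η.app _ (wb n k 1 le_rfl S)
      rw [wb, fr, res_self]
      exact comp_app_apply n k _ _ _
    have h' := congrArg (fun z => β.app (DD n k i ⊓ DD n k l) z) h
    simp only [Scheme.Modules.Hom.app_smul] at h'
    rw [hres l inf_le_right, hres i inf_le_left] at h'
    exact h'
  choose M hM using fun S => exists_linear n k (L S) (hLt S)
  let σ := Equiv.ofBijective (el n) (el_bijective n)
  obtain ⟨i, x, hx, hxD⟩ := exists_eigenpoint n k fun j q => M (σ.symm j) q
  refine ⟨x, fun U hxU s => ?_⟩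
  let Q := U ⊓ DD n k i
  have hQ : Q ≤ DD n k i := inf_le_right
  let z : Γ(Z n k 1, Q) := res (Z n k 1) (inf_le_left : Q ≤ U) (e.hom.app U s)
  let c : Idx n 1 → Γ(P, Q) := fun S => (wBasis n k 1 hQ).repr ((zι n k 1).app Q z) S
  have hz : (zι n k 1).app Q z = ∑ S, c S • wb n k 1 hQ S := by
    conv_lhs => rw [← (wBasis n k 1 hQ).sum_repr ((zι n k 1).app Q z)]
    exact Finset.sum_congr rfl fun S _ => by rw [wBasis_apply]
  have hzero : ∑ S, c S * t n k hQ (el n S) = 0 := by
    have h : (δS n k 0).app Q ((zι n k 1).app Q z) = 0 := by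
      rw [← comp_app_apply, show zι n k 1 ≫ δS n k 0 = 0 from kernel.condition _,
        Scheme.Modules.Hom.zero_app]
      rfl
    have hy : (zι n k 1).app Q z = Θ n k 1 hQ (∑ S, c S • eb n k 1 Q S) := by
      rw [hz, map_sum]
      exact Finset.sum_congr rfl fun S _ => by rw [map_smul, Θ_eb]
    rw [hy, δS_Θ, LinearEquiv.map_eq_zero_iff, map_sum] at h
    let ε := exteriorPower.ιMulti Γ(P, Q) 0 (M := Fin (n + 1) → Γ(P, Q)) (fun r => r.elim0)
    have hterm : ∀ S, Alg.δ (tf n k hQ) 0 (c S • eb n k 1 Q S) = (c S * t n k hQ (el n S)) • ε := by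
      intro S
      rw [map_smul, eb_apply, Alg.δ_ιMulti, Fin.sum_univ_one, tf_basis]
      simp only [Fin.val_zero, pow_zero, one_smul]
      rw [show (Fin.removeNth (0 : Fin 1) fun r => Pi.basisFun Γ(P, Q) (Fin (n + 1))
        (Set.powersetCard.ofFinEmbEquiv.symm S r)) = fun r => r.elim0 from funext fun r => r.elim0]
      rw [smul_smul]
      rfl
    simp only [hterm, ← Finset.sum_smul] at h
    have hε : eb n k 0 Q default = ε := by
      rw [eb_apply]
      exact congrArg _ (funext fun r => r.elim0)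
    rw [← hε] at h
    have h2 := congrArg (fun w => (eb n k 0 Q).repr w default) h
    simpa using h2
  have hmain : resR (inf_le_left : Q ≤ U) (OmegaSh.fnSect P U (ξ.app U s)) =
      ∑ S, c S * (resR hQ (L S i) - t n k hQ (el n S) * resR hQ (L (σ.symm i) i)) := by
    simp only [mul_sub, Finset.sum_sub_distrib, ← mul_assoc, ← Finset.sum_mul, hzero, zero_mul, sub_zero]
    have h1 : ξ.app U s = (e.inv ≫ ξ).app U (e.hom.app U s) := by
      rw [← comp_app_apply, e.hom_inv_id_assoc]
    have h2 : res (Coh.structureModule P) (inf_le_left : Q ≤ U) (ξ.app U s) =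
        ∑ S, c S • η.app Q (wb n k 1 hQ S) := by
      rw [h1, ← app_res]
      refine (congrArg (fun g : Z n k 1 ⟶ Coh.structureModule P => g.app Q z) hη.symm).trans ?_
      refine (comp_app_apply n k _ _ _).trans ?_
      show η.app Q ((zι n k 1).app Q z) = _
      rw [hz, map_sum]
      exact Finset.sum_congr rfl fun S _ => Scheme.Modules.Hom.app_smul η _ _
    refine h2.trans (Finset.sum_congr rfl fun S _ => ?_)
    refine congrArg (c S * ·) ?_
    show OmegaSh.fnSect P Q (η.app Q (wb n k 1 hQ S)) = resR hQ (L S i)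
    refine Eq.trans ?_ (congrArg (OmegaSh.fnSect P Q) (app_res η hQ (wb n k 1 (le_refl (DD n k i)) S)))
    congr 2
    show (biproduct.ι (fun _ : Idx n 1 => O n k 1) S).app Q (fr n k 1 hQ) =
      res (W n k 1) hQ ((biproduct.ι (fun _ : Idx n 1 => O n k 1) S).app (DD n k i) (fr n k 1 (le_refl (DD n k i))))
    rw [← app_res, fr, fr, res_res]
  have hxQ : x ∈ Q := ⟨hxU, hx⟩
  rw [← RefX.germ_resR (inf_le_left : Q ≤ U) hxQ, hmain, map_sum]
  refine Ideal.sum_mem _ fun S _ => ?_
  rw [map_mul]
  refine Ideal.mul_mem_left _ _ ?_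
  rw [map_sub, map_mul, t, RefX.germ_resR, RefX.germ_resR, RefX.germ_resR, ← map_mul, ← map_sub, hM, hM]
  have := hxD (el n S)
  simp only [show σ.symm (el n S) = S from σ.symm_apply_apply S] at this
  exact this

end Groth.Agent.VecPn7
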